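import Groth.Agent.MLProjLib.Descent
import Groth.Agent.QCohLib.FPSections

/-!
# Projectivity of sections is local on affine opens
-/

set_option autoImplicit false
set_option backward.isDefEq.respectTransparency false
set_option backward.defeqAttrib.useBackward true
set_option linter.style.haveILetI false

universe u

open CategoryTheory AlgebraicGeometry TopologicalSpace
open scoped TensorProduct

namespace Groth.Agent.ProjLocal

/-- Projectivity is local for a finite covering of the spectrum by localizations away from elements. -/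
theorem projective_of_away {A : Type u} [CommRing A] {ι : Type u} [Finite ι] (g : ι → A)
    (hg : Ideal.span (Set.range g) = ⊤) (R : ι → Type u) [∀ i, CommRing (R i)]
    [∀ i, Algebra A (R i)] [∀ i, IsLocalization.Away (g i) (R i)] {P : Type u} [AddCommGroup P]
    [Module A P] (h : ∀ i, Module.Projective (R i) (R i ⊗[A] P)) : Module.Projective A P := by
  classical
  haveI : Fintype ι := Fintype.ofFinite ι
  let S := ∀ i, R i
  haveI : ∀ i, Module.Flat A (R i) := fun i => IsLocalization.flat (R i) (Submonoid.powers (g i))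
  haveI : Module.Flat A S :=
    Module.Flat.of_linearEquiv (DFinsupp.linearEquivFunOnFintype (R := A) (M := R)).symm
  haveI : Module.FaithfullyFlat A S := by
    refine Module.FaithfullyFlat.of_comap_surjective fun p => ?_
    obtain ⟨i, hi⟩ : ∃ i, g i ∉ p.asIdeal := by
      by_contra! hcon
      exact p.isPrime.ne_top (top_le_iff.mp (hg ▸ Ideal.span_le.mpr (Set.range_subset_iff.mpr hcon)))
    obtain ⟨q, hq⟩ : p ∈ Set.range (PrimeSpectrum.comap (algebraMap A (R i))) := by
      rw [PrimeSpectrum.localization_away_comap_range (R i) (g i)]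
      exact hi
    refine ⟨PrimeSpectrum.comap (Pi.evalRingHom R i) q, ?_⟩
    rw [← hq]
    rfl
  letI : ∀ i, Algebra S (R i) := fun i => (Pi.evalRingHom R i).toAlgebra
  haveI : ∀ i, IsScalarTower A S (R i) := fun i => .of_algebraMap_eq fun _ => rfl
  let sgl : ∀ i, R i →ₗ[S] S := fun i =>
    { toFun := Pi.single i
      map_add' := fun a b => Pi.single_add i a b
      map_smul' := fun s a => by
        ext k
        obtain rfl | hk := eq_or_ne k i
        · show Pi.single k (s k * a) k = s k * (Pi.single k a : ∀ i, R i) k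
          simp
        · show Pi.single i (s i * a) k = s k * (Pi.single i a : ∀ i, R i) k
          simp [Pi.single_eq_of_ne hk] }
  let evl : ∀ i, S →ₗ[S] R i := fun i => (Algebra.linearMap S (R i))
  have hevl : ∀ (i : ι) (a : R i), evl i (sgl i a) = a := fun i a => by
    show (Pi.single i a : ∀ i, R i) i = a
    simp
  haveI : ∀ i, Module.Projective S (R i) := fun i =>
    Module.Projective.of_split (sgl i) (evl i) (LinearMap.ext (hevl i))
  haveI : ∀ i, Module.Projective S (R i ⊗[A] P) := fun i => by
    haveI := h i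
    obtain ⟨σ, hσ⟩ := Module.projective_def'.mp (h i)
    haveI : Module.Projective S ((R i ⊗[A] P) →₀ R i) :=
      Module.Projective.of_equiv (finsuppLequivDFinsupp S (M := R i) (ι := R i ⊗[A] P)).symm
    exact Module.Projective.of_split (σ.restrictScalars S)
      ((Finsupp.linearCombination (R i) id).restrictScalars S) (LinearMap.ext fun z => congr($hσ z))
  haveI : Module.Projective S (S ⊗[A] P) := by
    let i' : S ⊗[A] P →ₗ[S] (∀ i, R i ⊗[A] P) :=
      LinearMap.pi fun i => TensorProduct.AlgebraTensorModule.map (evl i) LinearMap.id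
    let s' : (∀ i, R i ⊗[A] P) →ₗ[S] S ⊗[A] P :=
      ∑ i, (TensorProduct.AlgebraTensorModule.map (sgl i) LinearMap.id) ∘ₗ LinearMap.proj i
    haveI : Module.Projective S (∀ i, R i ⊗[A] P) :=
      Module.Projective.of_equiv (DFinsupp.linearEquivFunOnFintype (R := S) (M := fun i => R i ⊗[A] P))
    refine Module.Projective.of_split i' s' ?_
    refine TensorProduct.AlgebraTensorModule.ext fun a m => ?_
    simp only [i', s', LinearMap.comp_apply, LinearMap.sum_apply, LinearMap.pi_apply,
      LinearMap.proj_apply, TensorProduct.AlgebraTensorModule.map_tmul, LinearMap.id_apply,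
      ← TensorProduct.sum_tmul]
    congr 1
    exact Finset.univ_sum_single a
  exact MLProjLib.projective_of_baseChange S

variable {X : Scheme.{u}} (F : X.Modules) [Coh.IsQCoh F]

theorem exists_sections_baseChange {V : X.Opens} (hV : IsAffineOpen V) (a : Γ(X, V)) :
    letI := (X.presheaf.map (homOfLE (X.basicOpen_le a)).op).hom.toAlgebra
    Nonempty ((Γ(X, X.basicOpen a) ⊗[Γ(X, V)] Γ(F, V)) ≃ₗ[Γ(X, X.basicOpen a)]
      Γ(F, X.basicOpen a)) := by
  letI := (X.presheaf.map (homOfLE (X.basicOpen_le a)).op).hom.toAlgebra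
  letI := Module.compHom Γ(F, X.basicOpen a) (X.presheaf.map (homOfLE (X.basicOpen_le a)).op).hom
  haveI : IsScalarTower Γ(X, V) Γ(X, X.basicOpen a) Γ(F, X.basicOpen a) :=
    .of_algebraMap_smul fun _ _ => rfl
  haveI := hV.isLocalization_basicOpen a
  obtain ⟨r, hr⟩ := QCohLib.exists_isLocalizedModule_res F hV a
  haveI := hr
  exact ⟨(IsLocalizedModule.isBaseChange (Submonoid.powers a) Γ(X, X.basicOpen a) r).equiv⟩

/-- Locally projective sections are projective on every affine open. -/
theorem projective_sections {I : Type u} (U : I → X.Opens) (hcov : ⨆ i, U i = ⊤)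
    (hU : ∀ i, IsAffineOpen (U i)) (h : ∀ i, Module.Projective Γ(X, U i) Γ(F, U i))
    {V : X.Opens} (hV : IsAffineOpen V) : Module.Projective Γ(X, V) Γ(F, V) := by
  have key : ∀ x : V, ∃ a : Γ(X, V), (x : X) ∈ X.basicOpen a ∧
      Module.Projective Γ(X, X.basicOpen a) Γ(F, X.basicOpen a) := by
    intro x
    obtain ⟨i, hi⟩ := Opens.mem_iSup.mp (show (x : X) ∈ ⨆ i, U i by rw [hcov]; trivial)
    obtain ⟨a, b, e, ha⟩ := exists_basicOpen_le_affine_inter hV (hU i) x ⟨x.2, hi⟩
    refine ⟨a, ha, ?_⟩
    rw [e]
    letI := (X.presheaf.map (homOfLE (X.basicOpen_le b)).op).hom.toAlgebra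
    obtain ⟨φ⟩ := exists_sections_baseChange F (hU i) b
    haveI := h i
    exact Module.Projective.of_equiv φ
  choose a ha hproj using key
  obtain ⟨s, hs⟩ := hV.isCompact.elim_finite_subcover (fun x : V => (X.basicOpen (a x) : Set X))
    (fun x => (X.basicOpen (a x)).2) (fun x hx => Set.mem_iUnion.mpr ⟨⟨x, hx⟩, ha ⟨x, hx⟩⟩)
  letI : ∀ k : s, Algebra Γ(X, V) Γ(X, X.basicOpen (a k)) := fun k =>
    (X.presheaf.map (homOfLE (X.basicOpen_le (a k))).op).hom.toAlgebra
  haveI : ∀ k : s, IsLocalization.Away (a k) Γ(X, X.basicOpen (a k)) := fun k =>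
    hV.isLocalization_basicOpen (a k)
  refine projective_of_away (fun k : s => a k) ?_ (fun k : s => Γ(X, X.basicOpen (a k))) fun k => ?_
  · refine (IsAffineOpen.iSup_basicOpen_eq_self_iff hV).mp (le_antisymm (iSup_le fun g => X.basicOpen_le _) ?_)
    intro x hx
    obtain ⟨y, hy, hxy⟩ := Set.mem_iUnion₂.mp (hs hx)
    exact Opens.mem_iSup.mpr ⟨⟨a y, ⟨⟨y, hy⟩, rfl⟩⟩, hxy⟩
  · obtain ⟨φ⟩ := exists_sections_baseChange F hV (a k)
    haveI := hproj k
    exact Module.Projective.of_equiv φ.symm

end Groth.Agent.ProjLocal
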